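import Mathlib

/-!
# Sheaves of sets and embeddings of topological spaces
-/

set_option autoImplicit false

universe u

namespace Groth.TopShSet

open CategoryTheory CategoryTheory.Limits TopologicalSpace Opposite

variable {X Y : TopCat.{u}} (i : Y ⟶ X)

/-- The largest open with trace below `W`. -/
def ext (W : Opens Y) : Opens X := sSup {O | (Opens.map i).obj O ≤ W}

theorem ext_mono {W W' : Opens Y} (h : W ≤ W') : ext i W ≤ ext i W' :=
  sSup_le_sSup fun _ hO => le_trans hO h

theorem le_ext (O : Opens X) : O ≤ ext i ((Opens.map i).obj O) :=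
  le_sSup (le_refl ((Opens.map i).obj O))

theorem map_ext (hi : Topology.IsInducing i) (W : Opens Y) : (Opens.map i).obj (ext i W) = W := by
  refine le_antisymm (fun y hy => ?_) fun y hy => ?_
  · obtain ⟨O, hO, hyO⟩ := Opens.mem_sSup.1 hy
    exact hO hyO
  · obtain ⟨O, hO, hOW⟩ := hi.isOpen_iff.1 W.2
    have h : (Opens.map i).obj ⟨O, hO⟩ ≤ W := fun z hz => hOW.subset hz
    exact Opens.mem_sSup.2 ⟨⟨O, hO⟩, h, hOW.superset hy⟩

theorem res_res (G : Y.Sheaf (Type u)) {A B D : (Opens Y)ᵒᵖ} (f : A ⟶ B) (g : B ⟶ D) (h : A ⟶ D)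
    (s : G.obj.obj A) : G.obj.map g (G.obj.map f s) = G.obj.map h s := by
  rw [← ConcreteCategory.comp_apply, ← Functor.map_comp, Subsingleton.elim (f ≫ g) h]

/-- Direct image along an embedding is fully faithful. -/
noncomputable def pushFF (hi : Topology.IsInducing i) :
    (TopCat.Sheaf.pushforward (Type u) i).FullyFaithful where
  preimage {F G} φ :=
    ⟨{ app := fun W => F.obj.map (eqToHom (congrArg op (map_ext i hi W.unop)).symm) ≫
          φ.hom.app (op (ext i W.unop)) ≫ G.obj.map (eqToHom (congrArg op (map_ext i hi W.unop)))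
       naturality := fun W W' f => by
        ext s
        change G.obj.map _ (φ.hom.app _ (F.obj.map _ (F.obj.map f s))) =
          G.obj.map f (G.obj.map _ (φ.hom.app _ (F.obj.map _ s)))
        have h : ext i W'.unop ≤ ext i W.unop := ext_mono i f.unop.le
        have hn := NatTrans.naturality_apply φ.hom (homOfLE h).op
          (F.obj.map (eqToHom (congrArg op (map_ext i hi W.unop)).symm) s)
        change φ.hom.app _ (F.obj.map ((Opens.map i).map (homOfLE h)).op _) =
          G.obj.map ((Opens.map i).map (homOfLE h)).op _ at hn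
        rw [res_res F _ _ (f ≫ eqToHom (congrArg op (map_ext i hi W'.unop)).symm),
          ← res_res F (eqToHom (congrArg op (map_ext i hi W.unop)).symm)
            ((Opens.map i).map (homOfLE h)).op
            (f ≫ eqToHom (congrArg op (map_ext i hi W'.unop)).symm) s]
        refine (congrArg (G.obj.map _) hn).trans ?_
        exact (res_res G _ _ (eqToHom (congrArg op (map_ext i hi W.unop)) ≫ f) _).trans
          (res_res G _ _ _ _).symm }⟩
  map_preimage {F G} φ := by
    refine Sheaf.hom_ext (NatTrans.ext (funext fun O => ?_))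
    ext s
    obtain ⟨O⟩ := O
    change G.obj.map (eqToHom (congrArg op (map_ext i hi ((Opens.map i).obj O))))
      (φ.hom.app _ (F.obj.map (eqToHom (congrArg op (map_ext i hi ((Opens.map i).obj O))).symm) s)) = φ.hom.app (op O) s
    have hn := NatTrans.naturality_apply φ.hom (homOfLE (le_ext i O)).op
      (F.obj.map (eqToHom (congrArg op (map_ext i hi ((Opens.map i).obj O))).symm) s)
    change φ.hom.app _ (F.obj.map ((Opens.map i).map (homOfLE (le_ext i O))).op _) =
      G.obj.map ((Opens.map i).map (homOfLE (le_ext i O))).op _ at hn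
    refine Eq.trans ?_ (hn.symm.trans (congrArg _
      ((res_res F _ _ (𝟙 _) s).trans (ConcreteCategory.congr_hom (F.obj.map_id _) s))))
    exact congrArg (fun t => G.obj.map t _) (Subsingleton.elim _ _)
  preimage_map {F G} ψ := by
    refine Sheaf.hom_ext (NatTrans.ext (funext fun W => ?_))
    ext s
    change G.obj.map _ (ψ.hom.app _ (F.obj.map _ s)) = ψ.hom.app W s
    rw [NatTrans.naturality_apply ψ.hom, res_res G _ _ (𝟙 _), G.obj.map_id]
    rfl

theorem isIso_counit (hi : Topology.IsInducing i) (F : Y.Sheaf (Type u)) :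
    IsIso ((TopCat.Sheaf.pullbackPushforwardAdjunction (Type u) i).counit.app F) := by
  haveI := (pushFF i hi).full
  haveI := (pushFF i hi).faithful
  infer_instance

/-- Sections over opens below `⊥` are unique. -/
noncomputable def uniqueOfLeBot (F : Y.Sheaf (Type u)) {W : Opens Y} (hW : W ≤ ⊥) :
    Unique (F.obj.obj (op W)) :=
  (Types.isTerminalEquivUnique _ (TopCat.Sheaf.isTerminalOfEqEmpty F (le_bot_iff.1 hW)))

theorem subsingleton_of_le_bot (F : Y.Sheaf (Type u)) {W : Opens Y} (hW : W ≤ ⊥) :
    Subsingleton (F.obj.obj (op W)) :=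
  (uniqueOfLeBot F hW).instSubsingleton

theorem unique_stalk_pushforward (hi : IsClosed (Set.range i)) (F : Y.Sheaf (Type u)) (x : X)
    (hx : x ∉ Set.range i) :
    Nonempty (Unique (((TopCat.Sheaf.pushforward (Type u) i).obj F).presheaf.stalk x)) := by
  let P := ((TopCat.Sheaf.pushforward (Type u) i).obj F).presheaf
  let O : Opens X := ⟨(Set.range i)ᶜ, hi.isOpen_compl⟩
  have hO : ∀ O' ≤ O, (Opens.map i).obj O' ≤ ⊥ := fun O' h y hy => (h hy ⟨y, rfl⟩).elim
  let t : P.obj (op O) := (uniqueOfLeBot F (hO O le_rfl)).default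
  refine ⟨⟨⟨P.germ O x hx t⟩, fun a => ?_⟩⟩
  obtain ⟨O', hxO', s, rfl⟩ := P.exists_germ_eq a
  haveI : Subsingleton (P.obj (op (O' ⊓ O))) := subsingleton_of_le_bot F (hO _ inf_le_right)
  exact P.germ_ext (O' ⊓ O) ⟨hxO', hx⟩ (homOfLE inf_le_left) (homOfLE inf_le_right)
    (Subsingleton.elim _ _)

open Classical in
/-- The stalk functor on sheaves. -/
noncomputable abbrev stalk (x : X) : X.Sheaf (Type u) ⥤ Type u :=
  TopCat.Sheaf.forget (Type u) X ⋙ TopCat.Presheaf.stalkFunctor (Type u) x

open Classical in
/-- The skyscraper functor is compatible with direct images. -/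
noncomputable def skyIso (y : Y) :
    skyscraperSheafFunctor (C := Type u) y ⋙ TopCat.Sheaf.pushforward (Type u) i ≅
      skyscraperSheafFunctor (i y) :=
  Iso.refl _

open Classical in
/-- Stalks of inverse images. -/
noncomputable def stalkPull (y : Y) :
    TopCat.Sheaf.pullback (Type u) i ⋙ stalk y ≅ stalk (i y) :=
  Adjunction.leftAdjointUniq
    ((TopCat.Sheaf.pullbackPushforwardAdjunction (Type u) i).comp (stalkSkyscraperSheafAdjunction y))
    ((stalkSkyscraperSheafAdjunction (i y)).ofNatIsoRight (skyIso i y).symm)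

theorem isIso_of_stalk {G G' : X.Sheaf (Type u)} (f : G ⟶ G') (h : ∀ x, IsIso ((stalk x).map f)) :
    IsIso f :=
  haveI : ∀ x, IsIso ((TopCat.Presheaf.stalkFunctor (Type u) x).map f.hom) := h
  TopCat.Presheaf.isIso_of_stalkFunctor_map_iso f

theorem isIso_of_unique {A B : Type u} (f : A ⟶ B) (hA : Nonempty (Unique A)) (hB : Nonempty (Unique B)) :
    IsIso f := by
  obtain ⟨hA⟩ := hA
  obtain ⟨hB⟩ := hB
  rw [isIso_iff_bijective]
  exact ⟨fun a b _ => Subsingleton.elim a b, fun b => ⟨hA.default, Subsingleton.elim _ _⟩⟩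

theorem essImage_pushforward (hi : Topology.IsClosedEmbedding i) (G : X.Sheaf (Type u)) :
    (TopCat.Sheaf.pushforward (Type u) i).essImage G ↔
      ∀ x : X, x ∉ Set.range i → Nonempty (Unique (G.presheaf.stalk x)) := by
  constructor
  · rintro ⟨F, ⟨e⟩⟩ x hx
    obtain ⟨h⟩ := unique_stalk_pushforward i hi.isClosed_range F x hx
    haveI : Unique ((stalk x).obj ((TopCat.Sheaf.pushforward (Type u) i).obj F)) := h
    exact ⟨((stalk x).mapIso e).toEquiv.symm.unique⟩
  · intro h
    let adj := TopCat.Sheaf.pullbackPushforwardAdjunction (Type u) i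
    haveI : IsIso (adj.unit.app G) := isIso_of_stalk _ fun x => by
      by_cases hx : x ∈ Set.range i
      · obtain ⟨y, rfl⟩ := hx
        rw [← NatIso.isIso_map_iff (stalkPull i y)]
        haveI := isIso_counit i hi.isInducing ((TopCat.Sheaf.pullback (Type u) i).obj G)
        haveI : IsIso ((TopCat.Sheaf.pullback (Type u) i).map (adj.unit.app G)) := by
          exact isIso_of_comp_hom_eq_id _ (adj.left_triangle_components G)
        exact inferInstanceAs (IsIso ((stalk y).map ((TopCat.Sheaf.pullback (Type u) i).map (adj.unit.app G))))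
      · exact isIso_of_unique _ (h x hx) (unique_stalk_pushforward i hi.isClosed_range _ x hx)
    exact ⟨_, ⟨(asIso (adj.unit.app G)).symm⟩⟩

section Open

variable (U : Opens X)

/-- Restriction to an open is left adjoint to direct image. -/
noncomputable def restrictAdj :
    U.sheafRestrict (C := Type u) ⊣ TopCat.Sheaf.pushforward (Type u) (Opens.inclusion' U) :=
  (TopCat.Sheaf.pullbackPushforwardAdjunction (Type u) (Opens.inclusion' U)).ofNatIsoLeft
    (U.isOpenEmbedding.sheafPullbackIso (Type u))

open Classical in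
/-- Stalks of restrictions. -/
noncomputable def stalkRestrict (y : (TopCat.of U)) :
    U.sheafRestrict (C := Type u) ⋙ stalk y ≅ stalk (Opens.inclusion' U y) :=
  Functor.isoWhiskerRight (U.isOpenEmbedding.sheafPullbackIso (Type u)).symm _ ≪≫ stalkPull _ y

variable (L : (TopCat.of U).Sheaf (Type u) ⥤ X.Sheaf (Type u)) (adj : L ⊣ U.sheafRestrict (C := Type u))

include adj

theorem shriek_ff : L.Full ∧ L.Faithful := by
  have hff := pushFF (Opens.inclusion' U) U.isOpenEmbedding.isInducing
  have h := (Adjunction.Triple.mk adj (restrictAdj U)).fullyFaithfulEquiv.symm hff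
  exact ⟨h.full, h.faithful⟩

open Classical in
theorem isEmpty_stalk (F : (TopCat.of U).Sheaf (Type u)) (x : X) (hx : x ∉ U) :
    IsEmpty ((stalk x).obj (L.obj F)) := by
  refine ⟨fun a => ?_⟩
  let A := adj.comp (stalkSkyscraperSheafAdjunction x)
  have hss : Subsingleton (F ⟶ (skyscraperSheafFunctor x ⋙ U.sheafRestrict).obj (ULift.{u} Bool)) :=
    ⟨fun f g => Sheaf.hom_ext (NatTrans.ext (funext fun W => by
      ext s
      have hx' : x ∉ U.isOpenEmbedding.functor.obj W.unop := fun h => by
        obtain ⟨y, -, rfl⟩ := h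
        exact hx y.2
      haveI : Subsingleton ((skyscraperSheaf x (ULift.{u} Bool)).obj.obj
          (op (U.isOpenEmbedding.functor.obj W.unop))) := by
        change Subsingleton (ite _ _ _)
        rw [if_neg hx']
        exact @Unique.instSubsingleton _ (Types.isTerminalEquivUnique.{u} (⊤_ (Type u)) terminalIsTerminal)
      exact Subsingleton.elim (α := (skyscraperSheaf x (ULift.{u} Bool)).obj.obj
          (op (U.isOpenEmbedding.functor.obj W.unop))) _ _))⟩
  have := @Equiv.subsingleton _ _ (A.homEquiv F (ULift.{u} Bool)) hss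
  have := ConcreteCategory.congr_hom
    (Subsingleton.elim (α := (stalk x).obj (L.obj F) ⟶ ULift.{u} Bool)
      (TypeCat.ofHom fun _ => ⟨true⟩) (TypeCat.ofHom fun _ => ⟨false⟩)) a
  exact Bool.noConfusion (congrArg ULift.down this)

theorem essImage_shriek (G : X.Sheaf (Type u)) :
    L.essImage G ↔ ∀ x : X, x ∉ U → IsEmpty (G.presheaf.stalk x) := by
  constructor
  · rintro ⟨F, ⟨e⟩⟩ x hx
    haveI := isEmpty_stalk U L adj F x hx
    exact ((stalk x).mapIso e).toEquiv.symm.isEmpty
  · intro h
    haveI := (shriek_ff U L adj).1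
    haveI := (shriek_ff U L adj).2
    haveI : IsIso (adj.counit.app G) := isIso_of_stalk _ fun x => by
      by_cases hx : x ∈ U
      · refine (NatIso.isIso_map_iff (stalkRestrict U ⟨x, hx⟩) (adj.counit.app G)).1 ?_
        haveI : IsIso ((U.sheafRestrict (C := Type u)).map (adj.counit.app G)) := by
          haveI : IsIso adj.unit := adj.unit_isIso_of_L_fully_faithful
          have hu := NatIso.isIso_app_of_isIso adj.unit ((U.sheafRestrict (C := Type u)).obj G)
          have h2 := adj.right_triangle_components G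
          exact @IsIso.of_isIso_fac_left _ _ _ _ _ _ _ _ hu (IsIso.id _) h2
        exact @Functor.map_isIso _ _ _ _ _ _ (stalk (X := TopCat.of U) ⟨x, hx⟩) _ this
      · rw [isIso_iff_bijective]
        haveI := isEmpty_stalk U L adj ((U.sheafRestrict (C := Type u)).obj G) x hx
        haveI : IsEmpty ((stalk x).obj G) := h x hx
        exact ⟨fun a => isEmptyElim (α := (stalk x).obj (L.obj ((U.sheafRestrict (C := Type u)).obj G))) a, fun b => isEmptyElim (α := (stalk x).obj G) b⟩
    exact ⟨_, ⟨asIso (adj.counit.app G)⟩⟩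

end Open

end Groth.TopShSet
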